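import Mathlib.GroupTheory.Transfer
import Mathlib.Algebra.Group.Subgroup.Finite
import Cfsg.Agent.Lib.Transfer.Hall

/-!
Tate's theorem: a normal subgroup meeting a Sylow `p`-subgroup inside its Frattini subgroup has a
normal `p`-complement.
-/

set_option autoImplicit false
open Subgroup
open scoped IsMulCommutative commutatorElement

namespace Cfsg.Agent.Lib.Transfer

variable {G : Type*} [Group G] [Finite G] {p : ℕ} [Fact p.Prime]

/-- Core of Tate's theorem. -/
theorem tate_core (P : Sylow p G) (M : Subgroup G) [M.Normal] (hsup : M ⊔ P = ⊤)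
    (hM : pResidual p M = ⊤) (hΦ : M.subgroupOf (P : Subgroup G) ≤ frattini (P : Subgroup G)) :
    M.subgroupOf (P : Subgroup G) = ⊥ := by
  set T := M.subgroupOf (P : Subgroup G) with hT
  have hnilP : Group.IsNilpotent (P : Subgroup G) := P.2.isNilpotent
  by_contra hne
  let T₀ : Subgroup (P : Subgroup G) := ⁅T, ⊤⁆
  have hT₀le : T₀ ≤ T := commutator_le_left _ _
  have hT₀n : T₀.Normal := inferInstance
  have hT₀ne : ¬ T ≤ T₀ := fun h => hne (eq_bot_of_le_commutator_top h)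
  let π : G →* G ⧸ M := QuotientGroup.mk' M
  let π' : ((P : Subgroup G) ⧸ T₀) →* G ⧸ M :=
    QuotientGroup.lift T₀ (π.comp (P : Subgroup G).subtype)
      (fun x hx => (QuotientGroup.eq_one_iff _).mpr (mem_subgroupOf.mp (hT₀le hx)))
  let A : Subgroup ((P : Subgroup G) ⧸ T₀) := T.map (QuotientGroup.mk' T₀)
  have hAker : ∀ a, a ∈ A ↔ π' a = 1 := by
    rintro ⟨x⟩
    constructor
    · rintro ⟨t, ht, he⟩
      rw [← show π' (QuotientGroup.mk' T₀ t) = π' (Quot.mk _ x) from congrArg π' he]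
      exact (QuotientGroup.eq_one_iff _).mpr (mem_subgroupOf.mp ht)
    · intro hx
      exact ⟨x, mem_subgroupOf.mpr ((QuotientGroup.eq_one_iff _).mp hx), rfl⟩
  have hAc : ∀ a ∈ A, ∀ e, a * e = e * a := by
    rintro _ ⟨t, ht, rfl⟩ ⟨e⟩
    refine (QuotientGroup.eq).mpr ?_
    have : ⁅t⁻¹, e⁻¹⁆ ∈ T₀ := commutator_mem_commutator (inv_mem ht) (mem_top _)
    have e' : (t * e)⁻¹ * (e * t) = (⁅t⁻¹, e⁻¹⁆)⁻¹ := by rw [commutatorElement_def]; group
    have h2 : (e * t)⁻¹ * (t * e) = ⁅t⁻¹, e⁻¹⁆ := by rw [commutatorElement_def]; group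
    first
      | exact e' ▸ inv_mem this
      | exact h2 ▸ this
  have hAcomm : IsMulCommutative A := ⟨⟨fun a b => Subtype.ext (hAc a a.2 b)⟩⟩
  -- the pullback group
  let E : Subgroup (G × ((P : Subgroup G) ⧸ T₀)) :=
    (π.comp (MonoidHom.fst _ _)).eqLocus (π'.comp (MonoidHom.snd _ _))
  have hE : ∀ x, x ∈ E ↔ π x.1 = π' x.2 := fun x => Iff.rfl
  have hfst : Function.Surjective fun x : E => (x : G × ((P : Subgroup G) ⧸ T₀)).1 := by
    intro g
    have hg : g ∈ M ⊔ (P : Subgroup G) := hsup ▸ mem_top g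
    obtain ⟨m, hm, x, hx, rfl⟩ := mem_sup_of_normal_left.mp hg
    refine ⟨⟨(m * x, QuotientGroup.mk ⟨x, hx⟩), ?_⟩, rfl⟩
    rw [hE, map_mul, show π m = 1 from (QuotientGroup.eq_one_iff _).mpr hm, one_mul]
    rfl
  let f : E →* G := (MonoidHom.fst _ _).comp E.subtype
  have hf : Function.Surjective f := hfst
  let H : Subgroup E := (P : Subgroup G).comap f
  have hindex : H.index = (P : Subgroup G).index := index_comap_of_surjective _ hf
  -- the retraction of `H` onto `A`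
  let r₀ : H → ((P : Subgroup G) ⧸ T₀) := fun x =>
    (x.1.1.2 : (P : Subgroup G) ⧸ T₀) * (QuotientGroup.mk (⟨f x.1, x.2⟩ : (P : Subgroup G)))⁻¹
  have hr₀ : ∀ x, r₀ x ∈ A := by
    intro x
    rw [hAker, map_mul, map_inv, mul_inv_eq_one]
    exact ((hE x.1.1).mp x.1.2).symm
  let r : H →* A := MonoidHom.mk' (fun x => ⟨r₀ x, hr₀ x⟩) (by
    intro x y
    apply Subtype.ext
    show r₀ (x * y) = r₀ x * r₀ y
    have hy := hAc _ (hr₀ y)
    simp only [r₀, Subgroup.coe_mul, Prod.snd_mul] at hy ⊢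
    have hmk : (QuotientGroup.mk (⟨f (x.1 * y.1), (x * y).2⟩ : (P : Subgroup G)) :
        (P : Subgroup G) ⧸ T₀) =
        QuotientGroup.mk (⟨f x.1, x.2⟩ : (P : Subgroup G)) *
          QuotientGroup.mk (⟨f y.1, y.2⟩ : (P : Subgroup G)) := by
      rw [← QuotientGroup.mk_mul]
      exact congrArg _ (Subtype.ext (map_mul f _ _))
    rw [hmk]
    set a := (x.1.1.2 : (P : Subgroup G) ⧸ T₀)
    set b := (y.1.1.2 : (P : Subgroup G) ⧸ T₀)
    set c := (QuotientGroup.mk (⟨f x.1, x.2⟩ : (P : Subgroup G)) : (P : Subgroup G) ⧸ T₀)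
    set d := (QuotientGroup.mk (⟨f y.1, y.2⟩ : (P : Subgroup G)) : (P : Subgroup G) ⧸ T₀)
    calc a * b * (c * d)⁻¹ = a * ((b * d⁻¹) * c⁻¹) := by group
      _ = a * (c⁻¹ * (b * d⁻¹)) := by rw [hy c⁻¹]
      _ = a * c⁻¹ * (b * d⁻¹) := by group)
  let t := MonoidHom.transfer r
  let ι : A →* E := MonoidHom.mk' (fun a => ⟨(1, a.1), by rw [hE, map_one, (hAker _).mp a.2]⟩)
    (fun a b => Subtype.ext (Prod.ext (by simp) (by simp)))
  have hιc : ∀ a, ι a ∈ center E := fun a => mem_center_iff.mpr fun x =>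
    Subtype.ext (Prod.ext (by simp [ι]) (hAc _ a.2 _).symm)
  have hιH : ∀ a, ι a ∈ H := fun a => show (1 : G) ∈ (P : Subgroup G) from one_mem _
  have htι : ∀ a, t (ι a) = a ^ H.index := by
    intro a
    have key : ∀ (k : ℕ) (g₀ : E), g₀⁻¹ * ι a ^ k * g₀ ∈ H → g₀⁻¹ * ι a ^ k * g₀ = ι a ^ k := by
      intro k g₀ _
      rw [mul_assoc, ← (mem_center_iff.mp (pow_mem (hιc a) k) g₀), inv_mul_cancel_left]
    rw [MonoidHom.transfer_eq_pow r (ι a) key]
    have : r ⟨ι a, hιH a⟩ = a := by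
      apply Subtype.ext
      show (a.1 : (P : Subgroup G) ⧸ T₀) * (QuotientGroup.mk _)⁻¹ = a.1
      have : (⟨f (ι a), hιH a⟩ : (P : Subgroup G)) = 1 := Subtype.ext rfl
      rw [this, QuotientGroup.mk_one, inv_one, mul_one]
    conv_rhs => rw [← this, ← map_pow]
    exact congrArg r (Subtype.ext rfl)
  have hcop : (Nat.card A).Coprime H.index := by
    obtain ⟨n, hn⟩ := IsPGroup.iff_card.mp ((P.2.to_quotient T₀).to_subgroup A)
    rw [hn, hindex]
    exact ((Fact.out : p.Prime).coprime_iff_not_dvd.mpr P.not_dvd_index).pow_left n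
  have hbij : Function.Bijective fun a : A => a ^ H.index := (powCoprime hcop).bijective
  let K : Subgroup E := t.ker
  let fK : K →* G := f.comp K.subtype
  have hinj : Function.Injective fK := by
    rw [injective_iff_map_eq_one]
    intro x hx
    have h1 : (x.1.1.2 : (P : Subgroup G) ⧸ T₀) ∈ A := by
      rw [hAker, ← (hE _).mp x.1.2]
      show π (f x.1) = 1
      rw [show f x.1 = 1 from hx, map_one]
    have h2 : x.1 = ι ⟨_, h1⟩ := Subtype.ext (Prod.ext hx rfl)
    have h3 : t x.1 = 1 := x.2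
    rw [h2, htι] at h3
    have h4 : (⟨_, h1⟩ : A) = 1 := hbij.1 (h3.trans (one_pow _).symm)
    exact Subtype.ext (h2.trans (by rw [h4, map_one]; rfl))
  have hsurjK : Function.Surjective fK := by
    intro g
    obtain ⟨e, he⟩ := hf g
    obtain ⟨a, ha⟩ := hbij.2 (t e)
    refine ⟨⟨e * (ι a)⁻¹, ?_⟩, ?_⟩
    · rw [MonoidHom.mem_ker, map_mul, map_inv, htι]
      exact mul_inv_eq_one.mpr ha.symm
    · show f (e * (ι a)⁻¹) = g
      rw [map_mul, map_inv, he]
      show g * (1 : G)⁻¹ = g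
      simp
  let s : G →* K := (MulEquiv.ofBijective fK ⟨hinj, hsurjK⟩).symm.toMonoidHom
  have hs : ∀ g, fK (s g) = g := fun g => (MulEquiv.ofBijective fK ⟨hinj, hsurjK⟩).apply_symm_apply g
  let ψ : G →* ((P : Subgroup G) ⧸ T₀) := ((MonoidHom.snd _ _).comp (E.subtype.comp K.subtype)).comp s
  have hψπ : ∀ g, π' (ψ g) = π g := fun g =>
    ((hE _).mp (s g).1.2).symm.trans (congrArg π (hs g))
  have hψM : ∀ m ∈ M, ψ m = 1 := by
    intro m hm
    let χ : M →* A := (ψ.comp M.subtype).codRestrict A fun x => by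
      rw [hAker, MonoidHom.comp_apply, hψπ]; exact (QuotientGroup.eq_one_iff _).mpr x.2
    have := pResidual_le_ker χ (P.2.to_quotient T₀ |>.to_subgroup A)
      (hM.symm ▸ mem_top (⟨m, hm⟩ : M) : (⟨m, hm⟩ : M) ∈ pResidual p M)
    exact congrArg Subtype.val (this : χ ⟨m, hm⟩ = 1)
  let C : Subgroup (P : Subgroup G) := ψ.range.comap (QuotientGroup.mk' T₀)
  have hCtop : C ⊔ frattini (P : Subgroup G) = ⊤ := by
    rw [eq_top_iff]
    intro x _
    have h1 : ψ x ∈ ψ.range := ⟨x, rfl⟩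
    obtain ⟨c, hc⟩ := QuotientGroup.mk'_surjective T₀ (ψ (x : G))
    have hcC : c ∈ C := by show QuotientGroup.mk' T₀ c ∈ ψ.range; rw [hc]; exact h1
    have hT' : c⁻¹ * x ∈ T := by
      have e : π ((x : G)) = π ((c : G)) := by
        rw [← hψπ, ← hc]
        rfl
      exact mem_subgroupOf.mpr (QuotientGroup.eq.mp e.symm)
    simpa using mul_mem_sup hcC (hΦ hT')
  have hC : C = ⊤ := frattini_nongenerating hCtop
  apply hT₀ne
  intro x hx
  have hxC : x ∈ C := hC ▸ mem_top x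
  obtain ⟨g, hg⟩ := hxC
  have hgM : g ∈ M := by
    rw [← QuotientGroup.eq_one_iff]
    show π g = 1
    rw [← hψπ, hg]
    exact (hAker _).mp ⟨x, hx, rfl⟩
  rw [hψM g hgM] at hg
  exact (QuotientGroup.eq_one_iff _).mp hg.symm

/-- Tate's theorem. -/
theorem tate (P : Sylow p G) (N : Subgroup G) [N.Normal]
    (h : N ⊓ (P : Subgroup G) ≤ (frattini (P : Subgroup G)).map (P : Subgroup G).subtype) :
    HasNormalPComplement p N := by
  rw [hasNormalPComplement_iff]
  let M : Subgroup G := (pResidual p N).map N.subtype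
  have hMn : M.Normal := by
    have := pResidual_characteristic (G := N) (p := p)
    exact ConjAct.normal_of_characteristic_of_normal
  have hMN : M ≤ N := map_subtype_le _
  rw [← card_map_of_injective N.subtype_injective]
  suffices hMP : M ⊓ (P : Subgroup G) = ⊥ by
    intro hd
    apply not_dvd_relIndex_inf P M
    rwa [inf_comm, hMP, relIndex_bot_left]
  let G₁ : Subgroup G := M ⊔ P
  let P₁ : Sylow p G₁ := P.subtype le_sup_right
  let M₁ : Subgroup G₁ := M.subgroupOf G₁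
  have hsup : M₁ ⊔ (P₁ : Subgroup G₁) = ⊤ := by
    rw [Sylow.coe_subtype]
    exact (subgroupOf_sup le_sup_left le_sup_right).symm.trans (subgroupOf_self _)
  have hres : pResidual p M₁ = ⊤ := by
    let e : M₁ ≃* pResidual p N :=
      (subgroupOfEquivOfLe (le_sup_left : M ≤ G₁)).trans
        (equivMapOfInjective _ _ N.subtype_injective).symm
    rw [eq_top_iff]
    intro x _
    have := map_pResidual_le (p := p) e.symm.toMonoidHom
    rw [pResidual_pResidual, ← MonoidHom.range_eq_map,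
      MonoidHom.range_eq_top.mpr e.symm.surjective] at this
    exact this (mem_top x)
  let ε : (P₁ : Subgroup G₁) ≃* (P : Subgroup G) :=
    (MulEquiv.subgroupCongr (Sylow.coe_subtype ..)).trans (subgroupOfEquivOfLe le_sup_right)
  have hΦ : M₁.subgroupOf (P₁ : Subgroup G₁) ≤ frattini (P₁ : Subgroup G₁) := by
    intro x hx
    have hxM : ((x : G₁) : G) ∈ M := mem_subgroupOf.mp (mem_subgroupOf.mp hx)
    have hxP : ((x : G₁) : G) ∈ (P : Subgroup G) := (ε x).2
    obtain ⟨y, hy, hyx⟩ := h ⟨hMN hxM, hxP⟩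
    have hεy : ε x = y := Subtype.ext hyx.symm
    have hfr := (frattini_le_comap_frattini_of_surjective ε.symm.surjective :
      frattini (P : Subgroup G) ≤ (frattini (P₁ : Subgroup G₁)).comap ε.symm.toMonoidHom)
    have := hfr hy
    rw [← hεy] at this
    simpa using this
  have hT := tate_core P₁ M₁ hsup hres hΦ
  rw [eq_bot_iff]
  rintro x ⟨hxM, hxP⟩
  have hx1 : (⟨⟨x, mem_sup_right hxP⟩, mem_subgroupOf.mpr hxP⟩ : (P₁ : Subgroup G₁)) ∈
      M₁.subgroupOf (P₁ : Subgroup G₁) := mem_subgroupOf.mpr (mem_subgroupOf.mpr hxM)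
  rw [hT, mem_bot] at hx1
  exact congrArg (fun z : (P₁ : Subgroup G₁) => ((z : G₁) : G)) hx1

end Cfsg.Agent.Lib.Transfer
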